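import Groth.Agent.CohBase.Push
import Groth.Agent.SiteBase.ExtAdjoint
import Groth.Prelude.Def_CohTop

/-!
# Cohomology and closed embeddings
-/

set_option linter.style.haveILetI false

universe u

open CategoryTheory CategoryTheory.Limits Opposite TopologicalSpace Abelian

namespace Groth.Agent.CechOpenLib

open CohBase

variable {X Y : TopCat.{u}} (f : X ⟶ Y) (hf : Topology.IsClosedEmbedding f)

/-- Sections over the empty open are trivial. -/
theorem subsingleton_sections_bot (F : AbSh X) {W : Opens X} (hW : W = ⊥) (s : F.obj.obj (op W)) :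
    s = 0 := by
  subst hW
  exact sheaf_ext F (κ := PEmpty.{1}) (V := fun k => k.elim) (fun k => k.elim) bot_le fun k => k.elim

include hf in
theorem epi_push_map {F G : AbSh X} (g : F ⟶ G) [Epi g] : Epi ((pushS f).map g) := by
  haveI hloc : Sheaf.IsLocallySurjective g :=
    (Sheaf.isLocallySurjective_iff_epi' AddCommGrpCat.{u} g).mpr inferInstance
  refine epi_of_local _ fun W s y hy => ?_
  by_cases hr : y ∈ Set.range f
  · obtain ⟨x, rfl⟩ := hr
    obtain ⟨U, j, ⟨t, ht⟩, hxU⟩ := Presheaf.imageSieve_mem (Opens.grothendieckTopology X) g.hom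
      (U := op (pre f W)) s x hy
    obtain ⟨W', hW', hUW'⟩ := hf.isInducing.isOpen_iff.1 U.2
    let V : Opens Y := ⟨W', hW'⟩ ⊓ W
    have hVU : pre f V ≤ U := fun a ha => by
      have h1 : a ∈ f ⁻¹' W' := ha.1
      rwa [hUW'] at h1
    refine ⟨V, inf_le_right, ⟨by
      show x ∈ f ⁻¹' W'
      rw [hUW']
      exact hxU, hy⟩, (psec f F V).symm (res F.obj hVU t), ?_⟩
    refine (psec f G V).injective ?_
    rw [psec_map, AddEquiv.apply_symm_apply, psec_res, ← res_map]
    exact (congrArg (res G.obj hVU) ht).trans ((res_res G.obj (leOfHom j) hVU _).trans rfl)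
  · let V : Opens Y := ⟨(Set.range f)ᶜ, hf.isClosed_range.isOpen_compl⟩ ⊓ W
    refine ⟨V, inf_le_right, ⟨hr, hy⟩, 0, (psec f G V).injective ?_⟩
    have h0 : ∀ z : G.obj.obj (op (pre f V)), z = 0 := fun z => subsingleton_sections_bot G
      (eq_bot_iff.2 fun a (ha : a ∈ pre f V) => absurd (Set.mem_range_self a) ha.1) z
    rw [h0 (psec f G V _), h0 (psec f G V _)]

include hf in
theorem push_bijective_cohomology (F : CohTop.Ab X) (p : ℕ) :
    Nonempty (CohTop.H F p ≃+ CohTop.H ((CohTop.push f).obj F) p) := by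
  haveI : PreservesFiniteLimits (CohTop.push f) :=
    haveI : PreservesLimitsOfSize.{0, 0} (CohTop.push f) :=
      (TopCat.Sheaf.pullbackPushforwardAdjunction AddCommGrpCat.{u} f).rightAdjoint_preservesLimits
    inferInstance
  haveI : (CohTop.push f).PreservesEpimorphisms := ⟨fun g _ => epi_push_map f hf g⟩
  haveI : PreservesFiniteColimits (CohTop.push f) := by
    have h := (CohTop.push f).preservesFiniteColimits_iff_forall_exact_map_and_epi
    refine h.2 fun S hS => ?_
    haveI := hS.epi_g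
    refine ⟨?_, inferInstanceAs (Epi ((CohTop.push f).map S.g))⟩
    haveI := hS.mono_f
    exact ((CohTop.push f).preservesFiniteLimits_iff_forall_exact_map_and_mono.1 inferInstance S hS).1
  let η : freeAb (⊤ : Opens Y) ⟶ (CohTop.push f).obj (freeAb (⊤ : Opens X)) :=
    (secEquiv (⊤ : Opens Y) _).symm (secEquiv (⊤ : Opens X) _ (𝟙 (freeAb (⊤ : Opens X))))
  have h : ∀ (M : AbSh X) (φ : freeAb (⊤ : Opens X) ⟶ M),
      secEquiv (⊤ : Opens Y) _ (η ≫ (CohTop.push f).map φ) = secEquiv (⊤ : Opens X) M φ := fun M φ => by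
    rw [secEquiv_comp, AddEquiv.apply_symm_apply]
    exact ((secEquiv_comp (⊤ : Opens X) (𝟙 _) φ).symm.trans (by rw [Category.id_comp]))
  have hη : ∀ M : AbSh X, Function.Bijective fun φ : freeAb (⊤ : Opens X) ⟶ M =>
      η ≫ (CohTop.push f).map φ := fun M => by
    refine ⟨fun φ ψ e => (secEquiv (⊤ : Opens X) M).injective
      ((h M φ).symm.trans ((congrArg (secEquiv (⊤ : Opens Y) _) e).trans (h M ψ))), fun x => ?_⟩
    exact ⟨(secEquiv (⊤ : Opens X) M).symm (secEquiv (⊤ : Opens Y) _ x),
      (secEquiv (⊤ : Opens Y) _).injective ((h M _).trans (AddEquiv.apply_symm_apply _ _))⟩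
  exact ⟨((HEquiv F p).trans (SiteBase.extUnitEquiv (G := CohTop.push f) η hη
    (fun I _ m => push_injective_acyclic f I ⊤ m) F p)).trans (HEquiv _ p).symm⟩

end Groth.Agent.CechOpenLib
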