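import Groth.Agent.CechOpenLib.ClosedPush
import Groth.Agent.LocZLib.Flasque

/-!
# Constant sheaves on irreducible spaces
-/

set_option autoImplicit false
set_option linter.style.haveILetI false

universe u

open CategoryTheory CategoryTheory.Limits Opposite TopologicalSpace

namespace Groth.Agent.CechOpenLib

open CohBase

variable {X : TopCat.{u}} [IrreducibleSpace X] (A : Type u) [AddCommGroup A]

/-- The constant presheaf. -/
noncomputable abbrev cPre (X : TopCat.{u}) (A : Type u) [AddCommGroup A] :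
    (Opens X)ᵒᵖ ⥤ AddCommGrpCat.{u} :=
  (Functor.const _).obj (AddCommGrpCat.of A)

/-- A constant section. -/
noncomputable abbrev cSec (V : Opens X) (a : A) : (CohTop.const X A).obj.obj (op V) :=
  (toSheafify (Opens.grothendieckTopology X) (cPre X A)).app (op V) a

omit [IrreducibleSpace X] in
theorem cSec_res {V W : Opens X} (h : W ≤ V) (a : A) :
    res (CohTop.const X A).obj h (cSec A V a) = cSec A W a :=
  (NatTrans.naturality_apply (toSheafify (Opens.grothendieckTopology X) (cPre X A))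
    (homOfLE h).op a).symm

omit [IrreducibleSpace X] in
theorem cSec_injective {W : Opens X} {x : X} (hx : x ∈ W) {a b : A} (h : cSec A W a = cSec A W b) :
    a = b := by
  obtain ⟨W', j, hj, -⟩ := Presheaf.equalizerSieve_mem (Opens.grothendieckTopology X)
    (toSheafify (Opens.grothendieckTopology X) (cPre X A)) (X := op W) a b h x hx
  exact hj

theorem exists_cSec (V : Opens X) (hV : (V : Set X).Nonempty) (s : (CohTop.const X A).obj.obj (op V)) :
    ∃ a, cSec A V a = s := by
  have hloc : ∀ x : ↥V, ∃ (W : Opens X) (hW : W ≤ V), x.1 ∈ W ∧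
      ∃ a, cSec A W a = res (CohTop.const X A).obj hW s := fun x => by
    obtain ⟨W, j, ⟨a, ha⟩, hxW⟩ := Presheaf.imageSieve_mem (Opens.grothendieckTopology X)
      (toSheafify (Opens.grothendieckTopology X) (cPre X A)) s x.1 x.2
    exact ⟨W, leOfHom j, hxW, a, ha⟩
  choose W hW hxW a ha using hloc
  obtain ⟨x₀, hx₀⟩ := hV
  refine ⟨a ⟨x₀, hx₀⟩, sheaf_ext _ hW (fun x hx => Opens.mem_iSup.2 ⟨⟨x, hx⟩, hxW _⟩) fun x => ?_⟩
  have key : a ⟨x₀, hx₀⟩ = a x := by
    obtain ⟨z, hz₁, hz₂⟩ := nonempty_preirreducible_inter (W ⟨x₀, hx₀⟩).2 (W x).2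
      ⟨x₀, hxW ⟨x₀, hx₀⟩⟩ ⟨x.1, hxW x⟩
    refine cSec_injective A (W := W ⟨x₀, hx₀⟩ ⊓ W x) (x := z) ⟨hz₁, hz₂⟩ ?_
    rw [← cSec_res A (inf_le_left : W ⟨x₀, hx₀⟩ ⊓ W x ≤ W ⟨x₀, hx₀⟩), ha, res_res,
      ← cSec_res A (inf_le_right : W ⟨x₀, hx₀⟩ ⊓ W x ≤ W x), ha, res_res]
  rw [cSec_res, key, ha]

theorem isFlasque_const : TopCat.Sheaf.IsFlasque (CohTop.const X A) := by
  refine LocZLib.isFlasque_of_surjective _ fun {W V} h s => ?_
  rcases (W : Set X).eq_empty_or_nonempty with hW | hW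
  · exact ⟨0, (map_zero _).trans
      (subsingleton_sections_bot (CohTop.const X A) (SetLike.coe_injective (by simpa using hW)) s).symm⟩
  · obtain ⟨a, rfl⟩ := exists_cSec A W hW s
    exact ⟨cSec A V a, cSec_res A h a⟩

theorem subsingleton_H_const (p : ℕ) : Subsingleton (CohTop.H (CohTop.const X A) (p + 1)) := by
  haveI := isFlasque_const (X := X) A
  haveI : Subsingleton (HU (⊤ : Opens X) (CohTop.const X A) (p + 1)) :=
    LocZLib.subsingleton_HU_flasque ⊤ p _
  exact (HEquiv _ (p + 1)).toEquiv.subsingleton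

end Groth.Agent.CechOpenLib
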