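import Groth.Agent.CechOpenLib.ConstIrred
import Groth.Agent.LocZLib.Basic

/-!
# Subsheaves of the constant sheaf on an irreducible space
-/

set_option autoImplicit false
set_option linter.style.haveILetI false

universe u

open CategoryTheory CategoryTheory.Limits Opposite TopologicalSpace

noncomputable section

namespace Groth.Agent.CechOpenLib

open CohBase

/-- Comparison of images from sectionwise ranges. -/
theorem imageSubobject_le_of_sections {Y : TopCat.{u}} {A B M : CohTop.Ab Y} (f : A ⟶ M) (g : B ⟶ M)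
    (h : ∀ (W : Opens Y) (s : A.obj.obj (op W)), ∃ t, g.hom.app (op W) t = f.hom.app (op W) s) :
    imageSubobject f ≤ imageSubobject g := by
  have h0 : f ≫ cokernel.π g = 0 := by
    ext W s
    obtain ⟨t, ht⟩ := h W.unop s
    show (cokernel.π g).hom.app W (f.hom.app W s) = 0
    rw [← ht]
    exact congr_arg (fun φ : B ⟶ cokernel g => φ.hom.app W t) (cokernel.condition g)
  refine imageSubobject_le f
    (kernel.lift (cokernel.π g) f h0 ≫ (Abelian.imageIsoImage g).hom ≫ (imageSubobjectIso g).inv) ?_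
  rw [Category.assoc, Category.assoc, imageSubobject_arrow', Abelian.imageIsoImage_hom_comp_image_ι,
    kernel.lift_ι]

variable {X : TopCat.{u}} [IrreducibleSpace X]

omit [IrreducibleSpace X] in
theorem cSec_add (W : Opens X) (a b : ULift.{u} ℤ) :
    cSec (ULift.{u} ℤ) W (a + b) = cSec _ W a + cSec _ W b :=
  map_add ((toSheafify (Opens.grothendieckTopology X) (cPre X (ULift.{u} ℤ))).app (op W)).hom a b

omit [IrreducibleSpace X] in
theorem cSec_zsmul (W : Opens X) (n : ℤ) (a : ULift.{u} ℤ) :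
    cSec (ULift.{u} ℤ) W (n • a) = n • cSec _ W a :=
  map_zsmul ((toSheafify (Opens.grothendieckTopology X) (cPre X (ULift.{u} ℤ))).app (op W)).hom n a

theorem exists_open_image_eq (H : CohTop.Ab X) (ι : H ⟶ CohTop.const X (ULift.{u} ℤ)) :
    ∃ (U : Opens X) (d : ℤ), U ≠ ⊥ ∧
      ∀ W : Opens X, W ≤ U → (∀ s : H.obj.obj (op W),
          ∃ t, d • t = ι.hom.app (op W) s) ∧
        (∀ t : (CohTop.const X (ULift.{u} ℤ)).obj.obj (op W),
          ∃ s, ι.hom.app (op W) s = d • t) := by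
  classical
  let Occurs : ℕ → Prop := fun m => 0 < m ∧ ∃ W : Opens X, (W : Set X).Nonempty ∧
    ∃ s, ι.hom.app (op W) s = cSec _ W ⟨(m : ℤ)⟩
  have hempty : ∀ (W : Opens X), ¬ (W : Set X).Nonempty →
      ∀ t : (CohTop.const X (ULift.{u} ℤ)).obj.obj (op W), t = 0 := fun W hW t =>
    subsingleton_sections_bot _ (SetLike.coe_injective (by simpa [Set.not_nonempty_iff_eq_empty] using hW)) t
  have hsec : ∀ {W W' : Opens X} (h : W' ≤ W) {n : ℤ} {s : H.obj.obj (op W)},
      ι.hom.app (op W) s = cSec _ W ⟨n⟩ → ι.hom.app (op W') (res H.obj h s) = cSec _ W' ⟨n⟩ :=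
    fun {W W'} h {n} {s} hs => by rw [← res_map, hs, cSec_res]
  have hocc : ∀ {W : Opens X} (hW : (W : Set X).Nonempty) {n : ℤ} {s : H.obj.obj (op W)},
      ι.hom.app (op W) s = cSec _ W ⟨n⟩ → n ≠ 0 → Occurs n.natAbs := by
    intro W hW n s hs hn
    refine ⟨Int.natAbs_pos.2 hn, W, hW, ?_⟩
    rcases n.natAbs_eq with e | e
    · exact ⟨s, by rw [← e]; exact hs⟩
    · refine ⟨(-1 : ℤ) • s, ?_⟩
      rw [map_zsmul, hs, ← cSec_zsmul]
      congr 1
      ext
      show (-1 : ℤ) • n = (n.natAbs : ℤ)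
      simp only [smul_eq_mul]
      omega
  by_cases hex : ∃ m, Occurs m
  · obtain ⟨hd, W₀, hW₀, s₀, hs₀⟩ := Nat.find_spec hex
    set d := Nat.find hex with hdd
    refine ⟨W₀, d, fun e => by simp [e] at hW₀, fun W hW => ?_⟩
    by_cases hne : (W : Set X).Nonempty
    swap
    · exact ⟨fun s => ⟨0, (hempty W hne _).trans (hempty W hne _).symm⟩,
        fun t => ⟨0, (hempty W hne _).trans (hempty W hne _).symm⟩⟩
    refine ⟨fun s => ?_, fun t => ?_⟩
    · obtain ⟨⟨a⟩, ha⟩ := exists_cSec _ W hne (ι.hom.app (op W) s)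
      refine ⟨cSec _ W ⟨a / d⟩, ?_⟩
      rw [← ha, ← cSec_zsmul]
      have hr : a % (d : ℤ) = 0 := by
        by_contra hr
        have h1 : ι.hom.app (op W) (s + (-(a / (d : ℤ))) • res H.obj hW s₀) = cSec _ W ⟨a % d⟩ := by
          rw [map_add, map_zsmul, hsec hW hs₀, ← ha, ← cSec_zsmul, ← cSec_add]
          congr 1
          ext
          show a + (-(a / (d : ℤ))) • (d : ℤ) = a % d
          rw [smul_eq_mul, Int.emod_def]
          ring
        have h2 := Nat.find_min' hex (hocc hne h1 hr)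
        have h3 := Int.emod_lt_of_pos a (show (0 : ℤ) < d by exact_mod_cast hd)
        have h4 := Int.emod_nonneg a (show (d : ℤ) ≠ 0 by omega)
        rw [← hdd] at h2
        omega
      congr 1
      ext
      show (d : ℤ) • (a / d) = a
      rw [smul_eq_mul]
      exact Int.mul_ediv_cancel_of_emod_eq_zero hr
    · obtain ⟨⟨a⟩, rfl⟩ := exists_cSec _ W hne t
      refine ⟨a • res H.obj hW s₀, ?_⟩
      rw [map_zsmul, hsec hW hs₀, ← cSec_zsmul, ← cSec_zsmul]
      congr 1
      ext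
      show a • (d : ℤ) = (d : ℤ) • a
      simp [mul_comm]
  · refine ⟨⊤, 0, fun e => ?_, fun W _ => ⟨fun s => ⟨0, ?_⟩, fun t => ⟨0, by rw [map_zero, zero_smul]⟩⟩⟩
    · obtain ⟨x⟩ := (IrreducibleSpace.toNonempty : Nonempty X)
      exact (e ▸ (Opens.mem_top x) : x ∈ (⊥ : Opens X)).elim
    · rw [smul_zero]
      by_cases hne : (W : Set X).Nonempty
      · obtain ⟨⟨a⟩, ha⟩ := exists_cSec _ W hne (ι.hom.app (op W) s)
        by_cases ha0 : a = 0
        · subst ha0
          exact (map_zero ((toSheafify (Opens.grothendieckTopology X) (cPre X (ULift.{u} ℤ))).app (op W)).hom).symm.trans ha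
        · exact absurd ⟨_, hocc hne ha.symm ha0⟩ hex
      · exact (hempty W hne _).symm

theorem exists_imageSubobject_eq (H : CohTop.Ab X) (ι : H ⟶ CohTop.const X (ULift.{u} ℤ)) :
    ∃ (U : Opens X) (d : ℤ), U ≠ ⊥ ∧
      imageSubobject ((CohTop.restrFunctor U).map ι) =
        imageSubobject ((CohTop.restrFunctor U).map (d • 𝟙 (CohTop.const X (ULift.{u} ℤ)))) := by
  obtain ⟨U, d, hU, h⟩ := exists_open_image_eq H ι
  refine ⟨U, d, hU, ?_⟩
  have hsm : ∀ (W : Opens X) (t : (CohTop.const X (ULift.{u} ℤ)).obj.obj (op W)),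
      (d • 𝟙 (CohTop.const X (ULift.{u} ℤ))).hom.app (op W) t = d • t := fun W t => rfl
  have hle : ∀ W : Opens (TopCat.of U), U.isOpenEmbedding.isOpenMap.functor.obj W ≤ U := by
    rintro W x ⟨y, -, rfl⟩
    exact y.2
  apply le_antisymm
  · refine imageSubobject_le_of_sections _ _ fun W s => ?_
    obtain ⟨t, ht⟩ := (h _ (hle W)).1 s
    exact ⟨t, (hsm _ t).trans ht⟩
  · refine imageSubobject_le_of_sections _ _ fun W t => ?_
    obtain ⟨s, hs⟩ := (h _ (hle W)).2 t
    exact ⟨s, hs.trans (hsm _ t).symm⟩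

end Groth.Agent.CechOpenLib
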