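import Groth.Agent.CohBase.Cartan

/-!
# Čech complexes of families containing their union
-/

set_option autoImplicit false
set_option linter.style.haveILetI false

universe u

open CategoryTheory CategoryTheory.Limits Opposite TopologicalSpace

noncomputable section

namespace Groth.Agent.CechOpenLib

open CohBase

variable {X : Type u} [TopologicalSpace X] {ι : Type u} (U : ι → Opens X)
  (P : (Opens X)ᵒᵖ ⥤ AddCommGrpCat.{u}) (i₀ : ι) (hi : U i₀ = iSup U)

include hi in
theorem inter_le_cons {n : ℕ} (I : Fin (n + 1) → ι) : inter U I ≤ inter U (Fin.cons i₀ I) :=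
  le_iInf fun a => by
    induction a using Fin.cases with
    | zero => exact (inter_le U I 0).trans ((le_iSup U (I 0)).trans hi.ge)
    | succ a => exact inter_le U I a

/-- Contracting homotopy of cochains. -/
def hcc (n : ℕ) : CC U P (n + 1) →+ CC U P n where
  toFun c I := res P (inter_le_cons U i₀ hi I) (c (Fin.cons i₀ I))
  map_zero' := by ext I; simp
  map_add' a b := by ext I; simp

theorem hcc_apply {n : ℕ} (c : CC U P (n + 1)) (I : Fin (n + 1) → ι) :
    hcc U P i₀ hi n c I = res P (inter_le_cons U i₀ hi I) (c (Fin.cons i₀ I)) := rfl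

theorem cons_comp_succAbove_zero {n : ℕ} (I : Fin (n + 1) → ι) :
    (Fin.cons i₀ I : Fin (n + 2) → ι) ∘ (0 : Fin (n + 2)).succAbove = I := by
  ext a; simp

theorem cons_comp_succAbove_succ {n : ℕ} (I : Fin (n + 2) → ι) (j : Fin (n + 2)) :
    (Fin.cons i₀ I : Fin (n + 3) → ι) ∘ j.succ.succAbove = Fin.cons i₀ (I ∘ j.succAbove) := by
  ext a
  induction a using Fin.cases with
  | zero => simp
  | succ a => simp [Fin.succ_succAbove_succ]

/-- The homotopy identity in positive degrees. -/
theorem hcc_cdiff_add (n : ℕ) (c : CC U P (n + 1)) :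
    hcc U P i₀ hi (n + 1) (cdiff U P (n + 1) c) + cdiff U P n (hcc U P i₀ hi n c) = c := by
  funext I
  rw [Pi.add_apply, hcc_apply, cdiff_apply, cdiff_apply, map_sum, Fin.sum_univ_succ]
  refine (add_assoc _ _ _).trans ?_
  rw [← Finset.sum_add_distrib]
  refine (congrArg₂ (· + ·) ?_ (Finset.sum_eq_zero fun j _ => ?_)).trans (add_zero (c I))
  · rw [Fin.val_zero, pow_zero, one_smul, res_res]
    exact (cc_congr (U := U) P c (cons_comp_succAbove_zero i₀ I) _ le_rfl).trans (res_self _ _ _)
  · rw [map_zsmul, res_res, hcc_apply, res_res, Fin.val_succ, pow_succ, mul_neg, mul_one, neg_smul,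
      cc_congr (U := U) P c (cons_comp_succAbove_succ i₀ I j) _
        ((inter_comp_le U I j.succAbove).trans (inter_le_cons U i₀ hi (I ∘ j.succAbove)))]
    exact neg_add_cancel _

/-- Evaluation at the index `i₀`. -/
def ev₀ : CC U P 0 →+ P.obj (op (iSup U)) :=
  AddMonoidHom.mk' (fun c => res P (hi.ge.trans (inter_const (U := U) i₀).le) (c fun _ => i₀))
    fun a b => by simp

theorem ev₀_aug (s : P.obj (op (iSup U))) : ev₀ U P i₀ hi (aug U P (le_iSup U) s) = s := by
  change res P _ (res P _ s) = s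
  rw [res_res, res_self]

theorem hcc_cdiff_zero (c : CC U P 0) :
    c - aug U P (le_iSup U) (ev₀ U P i₀ hi c) = hcc U P i₀ hi 0 (cdiff U P 0 c) := by
  funext I
  rw [Pi.sub_apply, hcc_apply, cdiff_zero_apply, map_sub, res_res, res_res]
  congr 1
  · exact ((cc_congr (U := U) P c (cons_comp_succAbove_zero i₀ I) _ le_rfl).trans (res_self _ _ _)).symm
  · change res P _ (res P _ (c fun _ => i₀)) = _
    rw [res_res]
    refine (cc_congr (U := U) P c ?_ _ _).symm
    ext a
    fin_cases a
    simp

/-- The augmentation as a map of complexes. -/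
def toCech : (CochainComplex.single₀ AddCommGrpCat.{u}).obj (P.obj (op (iSup U))) ⟶ cK U P :=
  (CochainComplex.fromSingle₀Equiv (cK U P) _).symm
    ⟨AddCommGrpCat.ofHom (aug U P (le_iSup U)) ≫ (cIso U P 0).inv,
      AddCommGrpCat.hom_ext (AddMonoidHom.ext fun s => cIso_injective U P 1 (by
        refine Eq.trans ?_ (map_zero (cIso U P 1).hom.hom).symm
        show (cIso U P 1).hom ((cK U P).d 0 1 ((cIso U P 0).inv (aug U P (le_iSup U) s))) = 0
        rw [cIso_d]
        exact (congrArg (cdiff U P 0) ((cIso U P 0).addCommGroupIsoToAddEquiv.apply_symm_apply _)).trans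
          (cdiff_aug P _ s)))⟩

/-- Evaluation at `i₀` as a map of complexes. -/
def ofCech : cK U P ⟶ (CochainComplex.single₀ AddCommGrpCat.{u}).obj (P.obj (op (iSup U))) :=
  (CochainComplex.toSingle₀Equiv (cK U P) _).symm ((cIso U P 0).hom ≫ AddCommGrpCat.ofHom (ev₀ U P i₀ hi))

/-- The homotopy in `cK`. -/
def hK (n : ℕ) : (cK U P).X (n + 1) ⟶ (cK U P).X n :=
  (cIso U P (n + 1)).hom ≫ AddCommGrpCat.ofHom (hcc U P i₀ hi n) ≫ (cIso U P n).inv

theorem cIso_inv_hom (n : ℕ) (c : CC U P n) : (cIso U P n).hom ((cIso U P n).inv c) = c :=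
  (cIso U P n).addCommGroupIsoToAddEquiv.apply_symm_apply c

theorem hom_inv (n : ℕ) (x : (cK U P).X n) : (cIso U P n).inv ((cIso U P n).hom x) = x :=
  (cIso U P n).addCommGroupIsoToAddEquiv.symm_apply_apply x

theorem hK_apply (n : ℕ) (x : (cK U P).X (n + 1)) :
    (cIso U P n).hom (hK U P i₀ hi n x) = hcc U P i₀ hi n ((cIso U P (n + 1)).hom x) :=
  cIso_inv_hom U P n _

open Classical in
/-- Homotopy between the composite and the identity. -/
def contraction : Homotopy (ofCech U P i₀ hi ≫ toCech U P) (𝟙 (cK U P)) where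
  hom a b := if h : b + 1 = a then eqToHom (congrArg (cK U P).X h.symm) ≫ (-(hK U P i₀ hi b)) else 0
  zero a b h := dif_neg (fun e => h e)
  comm n := by
    rw [Homotopy.dNext_cochainComplex, HomologicalComplex.id_f]
    obtain _ | n := n
    · rw [Homotopy.prevD_zero_cochainComplex, add_zero, dif_pos rfl, eqToHom_refl, Category.id_comp,
        HomologicalComplex.comp_f]
      refine AddCommGrpCat.hom_ext (AddMonoidHom.ext fun x => cIso_injective U P 0 ?_)
      have e1 : (ofCech U P i₀ hi).f 0 = (cIso U P 0).hom ≫ AddCommGrpCat.ofHom (ev₀ U P i₀ hi) :=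
        CochainComplex.toSingle₀Equiv_symm_apply_f_zero _
      have e2 : (toCech U P).f 0 = AddCommGrpCat.ofHom (aug U P (le_iSup U)) ≫ (cIso U P 0).inv :=
        CochainComplex.fromSingle₀Equiv_symm_apply_f_zero _ _
      rw [e1, e2]
      show (cIso U P 0).hom ((cIso U P 0).inv (aug U P (le_iSup U) (ev₀ U P i₀ hi ((cIso U P 0).hom x)))) =
        (cIso U P 0).hom (-(hK U P i₀ hi 0 ((cK U P).d 0 1 x)) + x)
      rw [cIso_inv_hom, map_add, map_neg, hK_apply, cIso_d, ← hcc_cdiff_zero]
      abel
    · rw [Homotopy.prevD_succ_cochainComplex, dif_pos rfl, dif_pos rfl, eqToHom_refl, eqToHom_refl, Category.id_comp,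
        Category.id_comp]
      have e0 : ((ofCech U P i₀ hi) ≫ toCech U P).f (n + 1) = 0 := by
        have hz : (ofCech U P i₀ hi).f (n + 1) = 0 :=
          (HomologicalComplex.isZero_single_obj_X (ComplexShape.up ℕ) 0 _ (n + 1)
            (Nat.succ_ne_zero n)).eq_of_tgt _ _
        rw [HomologicalComplex.comp_f, hz, zero_comp]
      rw [e0]
      refine AddCommGrpCat.hom_ext (AddMonoidHom.ext fun x => cIso_injective U P (n + 1) ?_)
      show (cIso U P (n + 1)).hom 0 = (cIso U P (n + 1)).hom
        (-(hK U P i₀ hi (n + 1) ((cK U P).d (n + 1) (n + 2) x)) +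
          (cK U P).d n (n + 1) (-(hK U P i₀ hi n x)) + x)
      rw [map_zero, map_neg, map_add, map_add, map_neg, map_neg, hK_apply, cIso_d, cIso_d, hK_apply]
      rw [← neg_add, hcc_cdiff_add]
      abel

/-- The Čech complex is homotopy equivalent to the sections on the union. -/
def cechHomotopyEquiv : HomotopyEquiv ((CochainComplex.single₀ AddCommGrpCat.{u}).obj (P.obj (op (iSup U))))
    (cK U P) where
  hom := toCech U P
  inv := ofCech U P i₀ hi
  homotopyHomInvId := Homotopy.ofEq (HomologicalComplex.from_single_hom_ext (by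
    rw [HomologicalComplex.comp_f, HomologicalComplex.id_f]
    have e1 : (ofCech U P i₀ hi).f 0 = (cIso U P 0).hom ≫ AddCommGrpCat.ofHom (ev₀ U P i₀ hi) :=
      CochainComplex.toSingle₀Equiv_symm_apply_f_zero _
    have e2 : (toCech U P).f 0 = AddCommGrpCat.ofHom (aug U P (le_iSup U)) ≫ (cIso U P 0).inv :=
      CochainComplex.fromSingle₀Equiv_symm_apply_f_zero _ _
    rw [e1, e2]
    refine AddCommGrpCat.hom_ext (AddMonoidHom.ext fun s => ?_)
    show ev₀ U P i₀ hi ((cIso U P 0).hom ((cIso U P 0).inv (aug U P (le_iSup U) s))) = s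
    rw [cIso_inv_hom, ev₀_aug]))
  homotopyInvHomId := contraction U P i₀ hi

end Groth.Agent.CechOpenLib
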