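import Groth.Agent.CechOpenLib.LerayOpen
import Groth.Agent.CohBase.Push
import Groth.Agent.LocZLib.Flasque

/-!
# Vanishing criteria from Čech cohomology
-/

set_option linter.style.haveILetI false

universe u

open CategoryTheory CategoryTheory.Limits Opposite TopologicalSpace

namespace Groth.Agent.CechOpenLib

open CohBase

variable {X : Type u} [TopologicalSpace X]

/-- Data for Cartan's criterion on a class of opens not assumed stable under intersections. -/
structure Setup (X : Type u) [TopologicalSpace X] where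
  /-- The opens. -/
  B : Opens X → Prop
  /-- The coverings. -/
  Cov : ∀ {ι : Type u}, (ι → Opens X) → Prop
  mem : ∀ {ι : Type u} {U : ι → Opens X}, Cov U → ∀ {n : ℕ} (i : Fin (n + 1) → ι), B (inter U i)
  refine_cov : ∀ {V : Opens X}, B V → ∀ {κ : Type u} (W : κ → Opens X), (∀ k, W k ≤ V) → V ≤ iSup W →
    ∃ (ι : Type u) (U : ι → Opens X), Cov U ∧ (∀ a, ∃ k, U a ≤ W k) ∧ V ≤ iSup U

variable (C : Setup X)

/-- The class of sheaves with exact Čech complexes. -/
def Setup.Good (F : AbSh X) : Prop :=
  ∀ (ι : Type u) (U : ι → Opens X), C.Cov U → ∀ n, CExact U F.obj n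

theorem Setup.good_surjective {S : ShortComplex (AbSh X)} (hF : C.Good S.X₁) (hS : S.ShortExact)
    {V : Opens X} (hV : C.B V) : Function.Surjective (S.g.hom.app (op V)) := by
  refine sections_surjective_of_cexact hS V fun W hle hcov => ?_
  obtain ⟨ι, U, hU, hr, hc⟩ := C.refine_cov hV W hle hcov
  exact ⟨ι, U, hr, hc, hF ι U hU 0⟩

theorem Setup.good_quot {F : AbSh X} (hF : C.Good F) : C.Good (injSeq F).X₃ := by
  intro ι U hU n c hc
  have hS := injSeq_shortExact F
  choose e he using fun i : Fin (n + 2) → ι =>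
    C.good_surjective (S := injSeq F) hF hS (C.mem hU i) (c i)
  have hge : ccMap U (injSeq F).g.hom (n + 1) e = c := funext he
  obtain ⟨t, ht⟩ := ccMap_exact U hS (cdiff U (injSeq F).X₂.obj (n + 1) e) (by
    rw [← cdiff_ccMap, hge, hc])
  obtain ⟨b, hb⟩ := hF ι U hU (n + 1) t (ccMap_injective U hS _ (by
    rw [← cdiff_ccMap, ht, cdiff_cdiff, map_zero]))
  obtain ⟨a, ha⟩ := injective_cexact U (injSeq F).X₂ n (e - ccMap U (injSeq F).f.hom (n + 1) b) (by
    rw [map_sub, cdiff_ccMap]
    erw [hb]
    rw [ht, sub_self])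
  refine ⟨ccMap U (injSeq F).g.hom n a, ?_⟩
  rw [cdiff_ccMap, ha, map_sub, ccMap_comp U hS, sub_zero, hge]

/-- Cartan's criterion. -/
theorem Setup.subsingleton_HU {F : AbSh X} (hF : C.Good F) {V : Opens X} (hV : C.B V) (n : ℕ) :
    Subsingleton (HU V F (n + 1)) := by
  induction n generalizing F with
  | zero =>
    haveI := subsingleton_of_injective V (injSeq F).X₂ 0
    exact subsingleton_one_of_surjective (injSeq_shortExact F) V
      (C.good_surjective (S := injSeq F) hF (injSeq_shortExact F) hV)
  | succ n ih =>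
    haveI := ih (C.good_quot hF)
    haveI := subsingleton_of_injective V (injSeq F).X₂ (n + 1)
    exact subsingleton_shift (injSeq_shortExact F) V (n + 1)

/-- Čech cohomology of a flasque sheaf vanishes in positive degree. -/
theorem isZero_cech_flasque {X : TopCat.{u}} (F : CohTop.Ab X) [TopCat.Sheaf.IsFlasque F]
    {ι : Type u} (U : ι → Opens X) (p : ℕ) : IsZero ((cK U F.obj).homology (p + 1)) := by
  obtain ⟨e⟩ := cechH_iso U (V := iSup U) (le_iSup U) le_rfl
    (F := F) (fun n i m => LocZLib.subsingleton_HU_flasque (inter U i) m F) (p + 1)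
  haveI : Subsingleton (HU (iSup U) F (p + 1)) := LocZLib.subsingleton_HU_flasque (iSup U) p F
  haveI := e.toEquiv.subsingleton
  exact AddCommGrpCat.isZero_of_subsingleton _

end Groth.Agent.CechOpenLib
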