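import Groth.Agent.CechOpenLib.ClosedPush
import Groth.Agent.LocZLib.Flasque

/-!
# The first step of Godement's resolution
-/

set_option autoImplicit false
set_option linter.style.haveILetI false

universe u

open CategoryTheory CategoryTheory.Limits Opposite TopologicalSpace

noncomputable section

namespace Groth.Agent.CechOpenLib

open CohBase

variable {X D : TopCat.{u}} [DiscreteTopology D] (f : D ⟶ X)

/-- Sheaves on discrete spaces are flasque. -/
theorem isFlasque_discrete (G : CohTop.Ab D) : TopCat.Sheaf.IsFlasque G := by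
  refine LocZLib.isFlasque_of_surjective _ fun {W V} h s => ?_
  let R : Opens D := ⟨(V : Set D) \ W, isOpen_discrete _⟩
  let Z : Bool → Opens D := fun b => if b then W else R
  let sec : ∀ b, G.obj.obj (op (Z b)) := fun b => match b with
    | true => s
    | false => 0
  obtain ⟨t, ht⟩ := sheaf_glue (X := D) G (κ := Bool) (V := Z) (W := V)
    (fun b => by
      cases b
      · exact fun x hx => hx.1
      · exact h)
    (fun x hx => Opens.mem_iSup.2 (by
      by_cases hw : x ∈ W
      · exact ⟨true, hw⟩
      · exact ⟨false, hx, hw⟩))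
    sec (fun a b => by
      cases a <;> cases b
      · rfl
      · exact (subsingleton_sections_bot G (eq_bot_iff.2 fun x (hx : x ∈ R ⊓ W) => absurd hx.2 hx.1.2) _).trans
          (subsingleton_sections_bot G (eq_bot_iff.2 fun x (hx : x ∈ R ⊓ W) => absurd hx.2 hx.1.2) _).symm
      · exact (subsingleton_sections_bot G (eq_bot_iff.2 fun x (hx : x ∈ W ⊓ R) => absurd hx.1 hx.2.2) _).trans
          (subsingleton_sections_bot G (eq_bot_iff.2 fun x (hx : x ∈ W ⊓ R) => absurd hx.1 hx.2.2) _).symm
      · rfl)
  exact ⟨t, ht true⟩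

theorem isFlasque_push_discrete (G : CohTop.Ab D) :
    TopCat.Sheaf.IsFlasque ((CohTop.push f).obj G) := by
  haveI := isFlasque_discrete G
  exact LocZLib.isFlasque_of_surjective _ fun h => LocZLib.surjective_res_flasque G (pre_mono f h)

/-- Families of germs on a discrete space over `X`. -/
def germPre (F : CohTop.Ab X) : TopCat.Presheaf AddCommGrpCat.{u} D where
  obj W := AddCommGrpCat.of (∀ x : W.unop, stk (X := X) F (f x.1))
  map {V W} h := AddCommGrpCat.ofHom (Pi.addMonoidHom fun x =>
    Pi.evalAddMonoidHom (fun y : V.unop => (stk (X := X) F (f y.1) : Type u)) ⟨x.1, h.unop.le x.2⟩)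
  map_id _ := rfl
  map_comp _ _ := rfl

omit [DiscreteTopology D] in
theorem germPre_isSheaf (F : CohTop.Ab X) : (germPre f F).IsSheaf := by
  rw [TopCat.Presheaf.isSheaf_iff_isSheafUniqueGluing]
  intro κ V sf hsf
  have hmem : ∀ x : ↥(iSup V), ∃ k, x.1 ∈ V k := fun x => Opens.mem_iSup.mp x.2
  choose k hk using hmem
  refine ⟨fun x => sf (k x) ⟨x.1, hk x⟩, fun a => funext fun x => ?_, fun g hg => funext fun x => ?_⟩
  · exact congrFun (hsf (k ⟨x.1, Opens.mem_iSup.mpr ⟨a, x.2⟩⟩) a) ⟨x.1, hk _, x.2⟩
  · exact congrFun (hg (k x)) ⟨x.1, hk x⟩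

/-- Germs at the points of a discrete space. -/
def toGerms (F : CohTop.Ab X) : F ⟶ (CohTop.push f).obj ⟨germPre f F, germPre_isSheaf f F⟩ :=
  ⟨{ app := fun W => AddCommGrpCat.ofHom
      (Pi.addMonoidHom fun x : pre f W.unop => ((topPre (X := X) F).germ W.unop (f x.1) x.2).hom)
     naturality := fun V W h => by
      refine AddCommGrpCat.hom_ext (AddMonoidHom.ext fun s => funext fun x => ?_)
      exact (topPre (X := X) F).germ_res_apply h.unop (f x.1) x.2 s }⟩

omit [DiscreteTopology D] in
theorem mono_toGerms (hf : Function.Surjective f) (F : CohTop.Ab X) : Mono (toGerms f F) := by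
  refine ⟨fun {Z} g h e => ?_⟩
  ext W s
  refine TopCat.Presheaf.section_ext (X := X) F W.unop _ _ fun x hx => ?_
  obtain ⟨y, rfl⟩ := hf x
  exact congrFun (congr_arg (fun φ : Z ⟶ (CohTop.push f).obj ⟨germPre f F, germPre_isSheaf f F⟩ =>
    φ.hom.app W s) e) ⟨y, hx⟩

omit [DiscreteTopology D] in
theorem mono_unit (hf : Function.Surjective f) (F : CohTop.Ab X) :
    Mono ((TopCat.Sheaf.pullbackPushforwardAdjunction AddCommGrpCat.{u} f).unit.app F) := by
  let adj := TopCat.Sheaf.pullbackPushforwardAdjunction AddCommGrpCat.{u} f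
  haveI := mono_toGerms f hf F
  haveI : Mono (adj.unit.app F ≫ (CohTop.push f).map ((adj.homEquiv F _).symm (toGerms f F))) := by
    have e : adj.unit.app F ≫ (CohTop.push f).map ((adj.homEquiv F _).symm (toGerms f F)) = toGerms f F :=
      (adj.homEquiv_unit F _ _).symm.trans (Equiv.apply_symm_apply _ _)
    exact @Eq.mpr _ _ (congrArg Mono e) (mono_toGerms f hf F)
  exact mono_of_mono _ ((CohTop.push f).map ((adj.homEquiv F _).symm (toGerms f F)))

end Groth.Agent.CechOpenLib
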