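import Groth.Agent.CechOpenLib.ClosedPush
import Groth.Agent.LocZLib.Flasque

/-!
# Sections with supports of an injective sheaf are injective on the closed subspace
-/

set_option autoImplicit false
set_option linter.style.haveILetI false

universe u

open CategoryTheory CategoryTheory.Limits Opposite TopologicalSpace

noncomputable section

namespace Groth.Agent.CechOpenLib

open CohBase

variable {X : TopCat.{u}} (U : Opens X)

/-- The closed complement. -/
abbrev cpl : TopCat.{u} := TopCat.of ((U : Set X)ᶜ : Set X)

/-- The inclusion of the closed complement. -/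
abbrev icl : cpl U ⟶ X := CohCx.inclCompl U

theorem isClosedEmbedding_icl : Topology.IsClosedEmbedding (icl U) :=
  U.2.isClosed_compl.isClosedEmbedding_subtypeVal

/-- The largest open with a given trace on the complement. -/
def ext (V : Opens (cpl U)) : Opens X where
  carrier := Subtype.val '' (V : Set (cpl U)) ∪ U
  is_open' := by
    obtain ⟨W, hW, hWV⟩ := isOpen_induced_iff.1 V.2
    have e : Subtype.val '' (V : Set (cpl U)) ∪ U = W ∪ (U : Set X) := by
      ext x
      by_cases hx : x ∈ (U : Set X)
      · simp [hx]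
      · constructor
        · rintro (⟨y, hy, rfl⟩ | h)
          · exact Or.inl ((Set.ext_iff.1 hWV y).2 hy)
          · exact Or.inr h
        · rintro (h | h)
          · exact Or.inl ⟨⟨x, hx⟩, (Set.ext_iff.1 hWV ⟨x, hx⟩).1 h, rfl⟩
          · exact Or.inr h
    rw [e]
    exact hW.union U.2

theorem ext_mono {V V' : Opens (cpl U)} (h : V ≤ V') : ext U V ≤ ext U V' :=
  Set.union_subset_union_left _ (Set.image_mono h)

theorem pre_ext (V : Opens (cpl U)) : pre (icl U) (ext U V) = V := by
  ext x
  refine ⟨fun h => ?_, fun h => Or.inl ⟨x, h, rfl⟩⟩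
  rcases h with ⟨y, hy, hyx⟩ | h
  · obtain rfl : y = x := Subtype.ext hyx
    exact hy
  · exact absurd h x.2

theorem ext_pre_eq (W : Opens X) : ext U (pre (icl U) W) = W ⊔ U := by
  ext x
  by_cases hx : x ∈ (U : Set X)
  · simp [ext, hx]
  · constructor
    · rintro (⟨y, hy, rfl⟩ | h)
      · exact Or.inl hy
      · exact Or.inr h
    · rintro (h | h)
      · exact Or.inl ⟨⟨x, hx⟩, h, rfl⟩
      · exact Or.inr h

variable (I : CohTop.Ab X)

/-- The sheaf of sections supported in the complement. -/
abbrev supp : CohTop.Ab X := CohCx.sectSupp U I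

theorem supp_eq_zero {W : Opens X} (hW : W ≤ U) (t : (supp U I).obj.obj (op W)) : t = 0 := by
  have hs := (LocZLib.mem_range_suppι_iff U I W _).mp ⟨t, rfl⟩
  refine sections_injective (X := X) (kernel.ι ((LocZLib.outsideUnit U).app I)) W
    (Eq.trans ?_ (map_zero _).symm)
  have h := congrArg (res I.obj (le_inf le_rfl hW)) hs
  change res I.obj _ (res I.obj _ _) = res I.obj _ 0 at h
  rw [res_res, res_self, map_zero] at h
  exact h

theorem supp_ext {W : Opens X} {s t : (supp U I).obj.obj (op (W ⊔ U))}
    (h : res (supp U I).obj le_sup_left s = res (supp U I).obj le_sup_left t) : s = t := by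
  refine sheaf_ext (X := X) (supp U I) (κ := Bool) (V := fun b => if b then W else U)
    (fun b => by cases b <;> simp) (sup_le (le_iSup_of_le true le_rfl) (le_iSup_of_le false le_rfl))
    fun b => ?_
  cases b
  · exact (supp_eq_zero U I le_rfl _).trans (supp_eq_zero U I le_rfl _).symm
  · exact h

theorem supp_lift {W : Opens X} (s : (supp U I).obj.obj (op W)) :
    ∃ t, res (supp U I).obj (le_sup_left : W ≤ W ⊔ U) t = s := by
  let sf : ∀ b : Bool, (supp U I).obj.obj (op (if b then W else U)) := fun b => match b with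
    | true => s
    | false => 0
  obtain ⟨t, ht⟩ := sheaf_glue (X := X) (supp U I) (κ := Bool) (V := fun b => if b then W else U)
    (W := W ⊔ U) (fun b => by cases b <;> simp)
    (sup_le (le_iSup_of_le true le_rfl) (le_iSup_of_le false le_rfl)) sf (fun a b => by
      cases a <;> cases b
      · rfl
      · exact (supp_eq_zero U I inf_le_left _).trans (supp_eq_zero U I inf_le_left _).symm
      · exact (supp_eq_zero U I inf_le_right _).trans (supp_eq_zero U I inf_le_right _).symm
      · rfl)
  exact ⟨t, ht true⟩

/-- The presheaf on the complement. -/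
def traceP : TopCat.Presheaf AddCommGrpCat.{u} (cpl U) where
  obj V := (supp U I).obj.obj (op (ext U V.unop))
  map {V W} h := (supp U I).obj.map (homOfLE (ext_mono U h.unop.le)).op
  map_id _ := (supp U I).obj.map_id _
  map_comp _ _ := by
    rw [← (supp U I).obj.map_comp]
    rfl

theorem isSheaf_traceP : (traceP U I).IsSheaf := by
  rw [TopCat.Presheaf.isSheaf_iff_isSheafUniqueGluing]
  intro κ V sf hsf
  let E : Option κ → Opens X := fun o => o.elim U (fun k => ext U (V k))
  have hle : ∀ o, E o ≤ ext U (iSup V) := by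
    rintro (_ | k)
    · exact Set.subset_union_right
    · exact ext_mono U (le_iSup V k)
  have hcov : ext U (iSup V) ≤ iSup E := by
    rintro x (⟨y, hy, rfl⟩ | h)
    · obtain ⟨k, hk⟩ := Opens.mem_iSup.1 hy
      exact Opens.mem_iSup.2 ⟨some k, Or.inl ⟨y, hk, rfl⟩⟩
    · exact Opens.mem_iSup.2 ⟨none, h⟩
  let sec : ∀ o, (supp U I).obj.obj (op (E o)) := fun o => match o with
    | none => 0
    | some k => sf k
  obtain ⟨t, ht⟩ := sheaf_glue (X := X) (supp U I) hle hcov sec (by
    rintro (_ | a) (_ | b)
    · rfl
    · exact (supp_eq_zero U I inf_le_left _).trans (supp_eq_zero U I inf_le_left _).symm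
    · exact (supp_eq_zero U I inf_le_right _).trans (supp_eq_zero U I inf_le_right _).symm
    · have hab : ext U (V a) ⊓ ext U (V b) ≤ ext U (V a ⊓ V b) := by
        rintro x ⟨ha, hb⟩
        rcases ha with ⟨y, hy, rfl⟩ | h
        · rcases hb with ⟨z, hz, hzy⟩ | h
          · obtain rfl : z = y := Subtype.ext hzy
            exact Or.inl ⟨z, ⟨hy, hz⟩, rfl⟩
          · exact Or.inr h
        · exact Or.inr h
      have h := congrArg (res (supp U I).obj hab) (hsf a b)
      change res (supp U I).obj hab (res (supp U I).obj _ (sf a)) =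
        res (supp U I).obj hab (res (supp U I).obj _ (sf b)) at h
      rw [res_res, res_res] at h
      exact h)
  refine ⟨t, fun k => ht (some k), fun g hg => sheaf_ext (X := X) (supp U I) hle hcov fun o => ?_⟩
  cases o with
  | none => exact (supp_eq_zero U I le_rfl _).trans (supp_eq_zero U I le_rfl _).symm
  | some k => exact (hg k).trans (ht (some k)).symm

/-- The sheaf on the complement. -/
def trace : CohTop.Ab (cpl U) := ⟨traceP U I, isSheaf_traceP U I⟩

/-- Restriction from `W ⊔ U`. -/
def traceHom : (CohTop.push (icl U)).obj (trace U I) ⟶ supp U I :=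
  ⟨{ app := fun W => AddCommGrpCat.ofHom
      (res (supp U I).obj ((le_sup_left : W.unop ≤ W.unop ⊔ U).trans (ext_pre_eq U W.unop).ge))
     naturality := fun W W' h => by
      refine AddCommGrpCat.hom_ext (AddMonoidHom.ext fun s => ?_)
      change res (supp U I).obj _ (res (supp U I).obj _ s) = res (supp U I).obj _ (res (supp U I).obj _ s)
      rw [res_res, res_res] }⟩

theorem isIso_traceHom : IsIso (traceHom U I) := by
  haveI : ∀ W, IsIso ((traceHom U I).hom.app W) := fun W => by
    refine (ConcreteCategory.isIso_iff_bijective _).2 ⟨fun s t h => ?_, fun s => ?_⟩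
    · have h' := supp_ext U I (W := W.unop) (s := res (supp U I).obj (ext_pre_eq U W.unop).ge s)
        (t := res (supp U I).obj (ext_pre_eq U W.unop).ge t) (by rw [res_res, res_res]; exact h)
      have h'' := congrArg (res (supp U I).obj (ext_pre_eq U W.unop).le) h'
      rw [res_res, res_res, res_self, res_self] at h''
      exact h''
    · obtain ⟨t, ht⟩ := supp_lift U I (W := W.unop) s
      refine ⟨res (supp U I).obj (ext_pre_eq U W.unop).le t, ?_⟩
      change res (supp U I).obj _ (res (supp U I).obj _ t) = s
      rw [res_res]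
      exact ht
  haveI : IsIso ((sheafToPresheaf _ _).map (traceHom U I)) := by
    exact @NatIso.isIso_of_isIso_app _ _ _ _ _ _ ((sheafToPresheaf _ _).map (traceHom U I)) this
  exact isIso_of_reflects_iso (traceHom U I) (sheafToPresheaf _ _)

theorem push_map_injective {A B : CohTop.Ab (cpl U)} {g g' : A ⟶ B}
    (h : (CohTop.push (icl U)).map g = (CohTop.push (icl U)).map g') : g = g' := by
  ext V s
  have e := pre_ext U V.unop
  have h1 := congrArg (fun φ : (CohTop.push (icl U)).obj A ⟶ (CohTop.push (icl U)).obj B =>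
    psec (icl U) B (ext U V.unop) (φ.hom.app (op (ext U V.unop))
      ((psec (icl U) A (ext U V.unop)).symm (res A.obj e.le s)))) h
  have h2 := congrArg (res B.obj e.ge) h1
  change res B.obj e.ge (g.hom.app (op (pre (icl U) (ext U V.unop))) (res A.obj e.le s)) =
    res B.obj e.ge (g'.hom.app (op (pre (icl U) (ext U V.unop))) (res A.obj e.le s)) at h2
  rw [res_map, res_map, res_res, res_self] at h2
  exact h2

theorem push_map_surjective {A B : CohTop.Ab (cpl U)}
    (φ : (CohTop.push (icl U)).obj A ⟶ (CohTop.push (icl U)).obj B) :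
    ∃ g : A ⟶ B, (CohTop.push (icl U)).map g = φ := by
  let f : ∀ W : Opens X, A.obj.obj (op (pre (icl U) W)) →+ B.obj.obj (op (pre (icl U) W)) := fun W =>
    ((psec (icl U) B W).toAddMonoidHom.comp ((φ.hom.app (op W)).hom)).comp
      (psec (icl U) A W).symm.toAddMonoidHom
  have hnat : ∀ {W W' : Opens X} (h : W' ≤ W) (s : A.obj.obj (op (pre (icl U) W))),
      res B.obj (pre_mono (icl U) h) (f W s) = f W' (res A.obj (pre_mono (icl U) h) s) := fun h s =>
    res_map φ.hom h ((psec (icl U) A _).symm s)
  let g : A ⟶ B := ⟨{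
    app := fun V => AddCommGrpCat.ofHom
      (((res B.obj (pre_ext U V.unop).ge).comp (f (ext U V.unop))).comp (res A.obj (pre_ext U V.unop).le))
    naturality := fun V V' h => by
      refine AddCommGrpCat.hom_ext (AddMonoidHom.ext fun s => ?_)
      change res B.obj _ (f _ (res A.obj _ (res A.obj h.unop.le s))) =
        res B.obj h.unop.le (res B.obj _ (f _ (res A.obj _ s)))
      rw [res_res, res_res]
      have := congrArg (res B.obj (pre_ext U V'.unop).ge)
        (hnat (ext_mono U h.unop.le) (res A.obj (pre_ext U V.unop).le s))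
      rw [res_res, res_res] at this
      exact this.symm }⟩
  refine ⟨g, ?_⟩
  ext W s
  refine (psec (icl U) B W.unop).injective ?_
  have hle : W.unop ≤ ext U (pre (icl U) W.unop) := (ext_pre_eq U W.unop).ge.trans' le_sup_left
  change res B.obj (pre_ext U (pre (icl U) W.unop)).ge
      (f (ext U (pre (icl U) W.unop)) (res A.obj (pre_ext U (pre (icl U) W.unop)).le s)) =
    f W.unop s
  refine ((hnat hle (res A.obj (pre_ext U (pre (icl U) W.unop)).le s))).trans ?_
  rw [res_res, res_self]

theorem isIso_counit (T : CohTop.Ab (cpl U)) :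
    IsIso ((TopCat.Sheaf.pullbackPushforwardAdjunction AddCommGrpCat.{u} (icl U)).counit.app T) := by
  haveI hf : (TopCat.Sheaf.pushforward AddCommGrpCat.{u} (icl U)).Faithful :=
    ⟨fun h => push_map_injective U h⟩
  haveI hF : (TopCat.Sheaf.pushforward AddCommGrpCat.{u} (icl U)).Full :=
    ⟨fun φ => push_map_surjective U φ⟩
  have hc := @Adjunction.counit_isIso_of_R_fully_faithful _ _ _ _ _ _
    (TopCat.Sheaf.pullbackPushforwardAdjunction AddCommGrpCat.{u} (icl U)) hF hf
  exact ((@asIso _ _ _ _ _ hc).app T).isIso_hom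

theorem comp_unit_eq_zero (B : CohTop.Ab (cpl U)) {G : CohTop.Ab X} (k : (CohTop.push (icl U)).obj B ⟶ G) :
    k ≫ (LocZLib.outsideUnit U).app G = 0 := by
  have hz : IsZero ((CohTop.pull (CohCx.incl U)).obj ((CohTop.push (icl U)).obj B)) := by
    refine IsZero.of_iso ?_ ((LocZLib.restrPullIso U).app _).symm
    rw [IsZero.iff_id_eq_zero]
    ext W s
    refine subsingleton_sections_bot B ?_ _
    refine eq_bot_iff.2 fun a ha => absurd ?_ a.2
    obtain ⟨b, -, hb⟩ := ha
    show a.1 ∈ U
    rw [show a.1 = b.1 from hb.symm]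
    exact b.2
  refine ((TopCat.Sheaf.pullbackPushforwardAdjunction AddCommGrpCat.{u} (CohCx.incl U)).unit.naturality k).trans ?_
  exact ((congrArg (_ ≫ ·) ((congrArg (CohTop.push (CohCx.incl U)).map (hz.eq_of_src _ 0)).trans
    (Functor.map_zero _ _ _))).trans comp_zero)

theorem injective_trace [Injective I] : Injective (trace U I) := by
  refine ⟨fun {A B} g a _ => ?_⟩
  haveI := isIso_traceHom U I
  haveI : (CohTop.push (icl U)).PreservesMonomorphisms :=
    haveI : PreservesLimitsOfSize.{0, 0} (CohTop.push (icl U)) :=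
      (TopCat.Sheaf.pullbackPushforwardAdjunction AddCommGrpCat.{u} (icl U)).rightAdjoint_preservesLimits
    preservesMonomorphisms_of_preservesLimitsOfShape _
  let k : (CohTop.push (icl U)).obj B ⟶ I :=
    Injective.factorThru ((CohTop.push (icl U)).map g ≫ traceHom U I ≫ kernel.ι _) ((CohTop.push (icl U)).map a)
  have hk : (CohTop.push (icl U)).map a ≫ k = (CohTop.push (icl U)).map g ≫ traceHom U I ≫ kernel.ι _ :=
    Injective.comp_factorThru _ _
  let k' : (CohTop.push (icl U)).obj B ⟶ supp U I := kernel.lift _ k (comp_unit_eq_zero U B k)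
  have hk' : k' ≫ kernel.ι _ = k := kernel.lift_ι _ _ _
  obtain ⟨b, hb⟩ := push_map_surjective U (k' ≫ inv (traceHom U I))
  refine ⟨b, push_map_injective U ?_⟩
  rw [Functor.map_comp, hb, ← Category.assoc, IsIso.comp_inv_eq]
  refine (cancel_mono (kernel.ι ((LocZLib.outsideUnit U).app I))).1 ?_
  rw [Category.assoc, Category.assoc, hk', hk]

theorem injective_HZ [Injective I] : Injective (CohCx.HZ U I) := by
  haveI := isIso_traceHom U I
  haveI := isIso_counit U (trace U I)
  exact Injective.of_iso
    ((@asIso _ _ _ _ ((TopCat.Sheaf.pullbackPushforwardAdjunction AddCommGrpCat.{u} (icl U)).counit.app (trace U I))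
        inferInstance).symm ≪≫ (CohTop.pull (icl U)).mapIso (asIso (traceHom U I)))
    (injective_trace U I)

end Groth.Agent.CechOpenLib
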