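import Groth.Agent.CechOpenLib.Criteria

/-!
# Čech vanishing from surjective restrictions to unions of intersections
-/

set_option autoImplicit false
set_option linter.style.haveILetI false

universe u

open CategoryTheory CategoryTheory.Limits Opposite TopologicalSpace

noncomputable section

namespace Groth.Agent.CechOpenLib

open CohBase

/-- The space of nonempty sets of indices. -/
def IdxSpace (ι : Type u) : Type u := {S : Set ι // S.Nonempty}

instance topologicalSpaceIdxSpace (ι : Type u) : TopologicalSpace (IdxSpace ι) where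
  IsOpen W := ∀ S ∈ W, ∃ t : Finset ι, t.Nonempty ∧ (↑t : Set ι) ⊆ S.1 ∧
    ∀ S' : IdxSpace ι, (↑t : Set ι) ⊆ S'.1 → S' ∈ W
  isOpen_univ S _ := by
    obtain ⟨i, hi⟩ := S.2
    exact ⟨{i}, ⟨i, Finset.mem_singleton_self i⟩, by simpa using hi, fun _ _ => trivial⟩
  isOpen_inter W W' hW hW' S hS := by
    classical
    obtain ⟨t, ht, htS, htW⟩ := hW S hS.1
    obtain ⟨t', _, htS', htW'⟩ := hW' S hS.2
    refine ⟨t ∪ t', ht.mono Finset.subset_union_left, by simp [htS, htS'], fun S' h => ?_⟩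
    rw [Finset.coe_union, Set.union_subset_iff] at h
    exact ⟨htW S' h.1, htW' S' h.2⟩
  isOpen_sUnion 𝒲 h S hS := by
    obtain ⟨W, hW, hSW⟩ := hS
    obtain ⟨t, ht, htS, htW⟩ := h W hW S hSW
    exact ⟨t, ht, htS, fun S' h' => ⟨W, hW, htW S' h'⟩⟩

variable {X : TopCat.{u}} {ι : Type u} (U : ι → Opens X)

/-- The basic open of an index. -/
def idxOpen (i : ι) : Opens (IdxSpace ι) :=
  ⟨{S | i ∈ S.1}, fun S hS => ⟨{i}, ⟨i, Finset.mem_singleton_self i⟩, by simpa using hS,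
    fun S' h => h (Finset.mem_singleton_self i)⟩⟩

/-- The set of indices of the opens containing a point. -/
def idxOf (x : X) : Set ι := {i | x ∈ U i}

/-- The point attached to a point of `X`. -/
def idxPt (x : X) (h : (idxOf U x).Nonempty) : IdxSpace ι := ⟨idxOf U x, h⟩

/-- The points whose index set lies in a given open. -/
def idxPre (W : Opens (IdxSpace ι)) : Opens X where
  carrier := {x | ∃ h : (idxOf U x).Nonempty, idxPt U x h ∈ W}
  is_open' := isOpen_iff_forall_mem_open.2 fun x ⟨hx, hxW⟩ => by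
    obtain ⟨t, ⟨i, hi⟩, htx, htW⟩ := W.2 _ hxW
    refine ⟨⋂ j ∈ t, (U j : Set X), fun y hy => ?_, isOpen_biInter_finset fun j _ => (U j).2,
      Set.mem_iInter₂.2 fun j hj => htx hj⟩
    have hy' : (↑t : Set ι) ⊆ idxOf U y := fun j hj => Set.mem_iInter₂.1 hy j hj
    exact ⟨⟨i, hy' hi⟩, htW ⟨_, i, hy' hi⟩ hy'⟩

theorem idxPre_mono {W W' : Opens (IdxSpace ι)} (h : W ≤ W') : idxPre U W ≤ idxPre U W' :=
  fun _ ⟨hx, hxW⟩ => ⟨hx, h hxW⟩

theorem idxPre_inter {n : ℕ} (i : Fin (n + 1) → ι) :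
    idxPre U (inter (idxOpen (ι := ι)) i) = inter U i := by
  ext x
  constructor
  · rintro ⟨hx, hxW⟩
    exact (mem_inter_iff U).2 fun a => (mem_inter_iff (idxOpen (ι := ι))).1 hxW a
  · intro hx
    have h := (mem_inter_iff U).1 hx
    exact ⟨⟨i 0, h 0⟩, (mem_inter_iff (idxOpen (ι := ι))).2 h⟩

theorem le_iSup_idxPre {κ : Type*} (V : κ → Opens (IdxSpace ι)) :
    idxPre U (iSup V) ≤ ⨆ k, idxPre U (V k) := by
  rintro x ⟨hx, hxW⟩
  obtain ⟨k, hk⟩ := Opens.mem_iSup.1 hxW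
  exact Opens.mem_iSup.2 ⟨k, hx, hk⟩

variable (F : CohTop.Ab X)

/-- Sections of `F` on preimages. -/
def idxPresheaf : TopCat.Presheaf AddCommGrpCat.{u} (TopCat.of (IdxSpace ι)) where
  obj W := F.obj.obj (op (idxPre U W.unop))
  map {V W} h := F.obj.map (homOfLE (idxPre_mono U h.unop.le)).op
  map_id _ := F.obj.map_id _
  map_comp _ _ := by
    rw [← F.obj.map_comp]
    rfl

theorem isSheaf_idxPresheaf : (idxPresheaf U F).IsSheaf := by
  rw [TopCat.Presheaf.isSheaf_iff_isSheafUniqueGluing]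
  intro κ V sf hsf
  have hle : ∀ k, idxPre U (V k) ≤ idxPre U (iSup V) := fun k => idxPre_mono U (le_iSup V k)
  obtain ⟨t, ht⟩ := sheaf_glue (X := X) F hle (le_iSup_idxPre U V) sf fun a b => by
    have hab : idxPre U (V a) ⊓ idxPre U (V b) ≤ idxPre U (V a ⊓ V b) :=
      fun x ⟨⟨hx, ha⟩, ⟨_, hb⟩⟩ => ⟨hx, ha, hb⟩
    have h := congrArg (res F.obj hab) (hsf a b)
    change res F.obj hab (res F.obj _ (sf a)) = res F.obj hab (res F.obj _ (sf b)) at h
    rw [res_res, res_res] at h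
    exact h
  refine ⟨t, ht, fun g hg => sheaf_ext (X := X) F hle (le_iSup_idxPre U V) fun k => ?_⟩
  rw [ht]
  exact hg k

/-- The pushed forward sheaf. -/
def idxSheaf : AbSh (IdxSpace ι) := ⟨idxPresheaf U F, isSheaf_idxPresheaf U F⟩

theorem idxRes {W W' : Opens (IdxSpace ι)} (h : W' ≤ W) (s : F.obj.obj (op (idxPre U W))) :
    res (idxSheaf U F).obj h s = res F.obj (idxPre_mono U h) s :=
  rfl

theorem isFlasque_idxSheaf
    (h : ∀ (κ : Type u) (a : κ → Σ p : ℕ, Fin (p + 1) → ι) (V : Opens X)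
      (hV : (⨆ k, ⨅ j, U ((a k).2 j)) ≤ V), V = iSup U → Function.Surjective (res F.obj hV)) :
    TopCat.Sheaf.IsFlasque (X := TopCat.of (IdxSpace ι)) (idxSheaf U F) := by
  refine LocZLib.isFlasque_of_surjective (X := TopCat.of (IdxSpace ι)) _ fun {W V} hWV s => ?_
  let κ := {a : Σ p : ℕ, Fin (p + 1) → ι // inter (idxOpen (ι := ι)) a.2 ≤ W}
  have e : idxPre U W ≤ ⨆ k : κ, ⨅ j, U (k.1.2 j) := by
    rintro x ⟨hx, hxW⟩
    obtain ⟨t, ht, htx, htW⟩ := W.2 _ hxW
    obtain ⟨p, hp⟩ : ∃ p, t.card = p + 1 := ⟨t.card - 1, by have := ht.card_pos; omega⟩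
    let a : Fin (p + 1) → ι := fun j => ((t.equivFinOfCardEq hp).symm j).1
    have ha : inter (idxOpen (ι := ι)) a ≤ W := fun S hS => htW S fun j hj => by
      have h1 := (mem_inter_iff (idxOpen (ι := ι))).1 hS (t.equivFinOfCardEq hp ⟨j, hj⟩)
      simpa [a, idxOpen] using h1
    refine Opens.mem_iSup.2 ⟨⟨⟨p, a⟩, ha⟩, (mem_inter_iff U).2 fun j => ?_⟩
    exact htx ((t.equivFinOfCardEq hp).symm j).2
  have e' : (⨆ k : κ, ⨅ j, U (k.1.2 j)) ≤ idxPre U W :=
    iSup_le fun k => (idxPre_inter U k.1.2).ge.trans (idxPre_mono U k.2)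
  have hV : idxPre U V ≤ iSup U := fun x ⟨⟨i, hi⟩, _⟩ => Opens.mem_iSup.2 ⟨i, hi⟩
  obtain ⟨t, ht⟩ := h κ (fun k => k.1) (iSup U) (e'.trans ((idxPre_mono U hWV).trans hV)) rfl
    (res F.obj e' s)
  refine ⟨res F.obj hV t, ?_⟩
  show res F.obj (idxPre_mono U hWV) (res F.obj hV t) = s
  rw [res_res]
  have h2 := congrArg (res F.obj e) ht
  rw [res_res, res_res, res_self] at h2
  exact h2

theorem cexact_of_idxSheaf (n : ℕ) (hG : CExact (idxOpen (ι := ι)) (idxSheaf U F).obj n) :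
    CExact U F.obj n := by
  intro c hc
  let c' : CC (idxOpen (ι := ι)) (idxSheaf U F).obj (n + 1) := fun i =>
    res F.obj (idxPre_inter U i).le (c i)
  obtain ⟨b', hb'⟩ := hG c' (by
    funext i
    have h := congrArg (res F.obj (idxPre_inter U i).le) (congrFun hc i)
    simp only [cdiff_apply, map_sum, map_zsmul, res_res, Pi.zero_apply, map_zero] at h
    refine Eq.trans ?_ h
    rw [cdiff_apply]
    refine Finset.sum_congr rfl fun j _ => ?_
    exact congrArg _ ((idxRes U F _ _).trans (res_res _ _ _ _)))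
  refine ⟨fun i => res F.obj (idxPre_inter U i).ge (b' i), funext fun i => ?_⟩
  have h := congrArg (res F.obj (idxPre_inter U i).ge) (congrFun hb' i)
  change res F.obj _ _ = res F.obj _ (res F.obj _ (c i)) at h
  rw [res_res, res_self] at h
  refine Eq.trans ?_ h
  rw [cdiff_apply, cdiff_apply]
  refine Eq.trans ?_ (map_sum (res F.obj (idxPre_inter U i).ge) _ _).symm
  refine Finset.sum_congr rfl fun j _ => ?_
  refine Eq.trans ?_ (map_zsmul (res F.obj (idxPre_inter U i).ge) _ _).symm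
  exact congrArg _ ((res_res _ _ _ _).trans
    ((congrArg (res F.obj _) (idxRes U F _ _)).trans (res_res _ _ _ _)).symm)

theorem isZero_cech_of_surjective
    (h : ∀ (κ : Type u) (a : κ → Σ p : ℕ, Fin (p + 1) → ι) (V : Opens X)
      (hV : (⨆ k, ⨅ j, U ((a k).2 j)) ≤ V), V = iSup U → Function.Surjective (res F.obj hV))
    (p : ℕ) : IsZero ((cK U F.obj).homology (p + 1)) := by
  haveI := isFlasque_idxSheaf U F h
  rw [isZero_homology_iff]
  refine cexact_of_idxSheaf U F p ((isZero_homology_iff _ _ p).1 ?_)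
  exact isZero_cech_flasque (X := TopCat.of (IdxSpace ι)) (idxSheaf U F) (idxOpen (ι := ι)) p

end Groth.Agent.CechOpenLib
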